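import Mathlib
import Cfsg.Agent.H323.OI.Iface

/-!
# S3325, piece 2 (config lemma): preliminaries
-/

set_option autoImplicit false

namespace Cfsg.Agent.H832.OI

open Cfsg Subgroup Matrix
open Cfsg.Agent.H323.OI

section grp

variable {G : Type*} [Group G]

theorem dvd_aux [Finite G] (Q C : Subgroup G) [C.Normal] : Q.relIndex C ∣ Q.index := by
  have key : ∀ A B : Subgroup G, A ≤ B → Nat.card A * A.relIndex B = Nat.card B := by
    intro A B hAB
    have := card_mul_index (A.subgroupOf B)
    rwa [Nat.card_congr (subgroupOfEquivOfLe hAB).toEquiv] at this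
  have h1 := key C (Q ⊔ C) le_sup_right
  rw [relIndex_sup_right] at h1
  have h2 := key (Q ⊓ C) Q inf_le_left
  rw [inf_relIndex_left] at h2
  have h3 := key (Q ⊓ C) C inf_le_right
  rw [inf_relIndex_right] at h3
  have h4 := key Q (Q ⊔ C) le_sup_left
  have h5 : Q.relIndex (Q ⊔ C) = Q.relIndex C := by
    have hpos : 0 < Nat.card Q := Nat.card_pos
    apply Nat.eq_of_mul_eq_mul_left hpos
    rw [h4, ← h1, ← h3, ← h2]
    ring
  rw [← h5]
  exact relIndex_dvd_index_of_le le_sup_left

/-- `K` normal in `C` -/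
theorem relIndex_dvd [Finite G] {H K C : Subgroup G} (hK : K ≤ C)
    (hn : ∀ g ∈ C, ∀ k ∈ K, g * k * g⁻¹ ∈ K) : H.relIndex K ∣ H.relIndex C := by
  have : (K.subgroupOf C).Normal := ⟨fun k hk g => hn g g.2 k hk⟩
  have h := dvd_aux (H.subgroupOf C) (K.subgroupOf C)
  rwa [relIndex_subgroupOf hK] at h

/-- a central involution lies in every subgroup of odd index -/
theorem mem_of_odd [Finite G] {H C : Subgroup G} (hodd : Odd (H.relIndex C)) {t : G} (htC : t ∈ C)
    (ht : t * t = 1) (hc : ∀ g ∈ C, g * t = t * g) : t ∈ H := by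
  have h1 : H.relIndex (zpowers t) ∣ H.relIndex C := by
    refine relIndex_dvd (by rwa [zpowers_le]) ?_
    intro g hg k hk
    obtain ⟨i, rfl⟩ := mem_zpowers_iff.1 hk
    have : Commute g t := hc g hg
    rw [(this.zpow_right i).eq, mul_inv_cancel_right]
    exact zpow_mem (mem_zpowers t) i
  have h2 : H.relIndex (zpowers t) ∣ 2 := by
    refine (relIndex_dvd_card H (zpowers t)).trans ?_
    rw [Nat.card_zpowers]
    exact orderOf_dvd_of_pow_eq_one (by rw [pow_two]; exact ht)
  have h3 : H.relIndex (zpowers t) = 1 := by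
    rcases (Nat.dvd_prime Nat.prime_two).1 h2 with h | h
    · exact h
    · rw [h] at h1
      exact absurd (even_iff_two_dvd.2 h1) (Nat.not_even_iff_odd.2 hodd)
  exact (relIndex_eq_one.1 h3) (mem_zpowers t)

end grp

section forms

variable {F : Type} [Field F] {n : ℕ} {c : Fin n → F}

theorem mx_mul (g h : OO c) : mx (g * h) = mx g * mx h := rfl

theorem mx_inj {g h : OO c} (e : mx g = mx h) : g = h := Subtype.ext (Units.ext e)

theorem mx_negI : mx (negI c) = -1 := rfl

theorem negI_mul (g : OO c) : negI c * g = g * negI c := by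
  apply mx_inj
  rw [mx_mul, mx_mul, mx_negI, neg_one_mul, mul_neg_one]

theorem negI_sq : negI c * negI c = 1 := by
  apply mx_inj
  rw [mx_mul, mx_negI]
  simp [mx]

theorem det_negI : (mx (negI c)).det = (-1) ^ n := by
  rw [mx_negI, Matrix.det_neg, Matrix.det_one, mul_one, Fintype.card_fin]

theorem det_mul (g h : OO c) : (mx (g * h)).det = (mx g).det * (mx h).det := by
  rw [mx_mul, Matrix.det_mul]

theorem coe_cj (g : OO c) (m : Om c) : ((cj g m : Om c) : OO c) = g * m * g⁻¹ := MulAut.conjNormal_apply g m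

theorem cj_mul (g h : OO c) (m : Om c) : cj (g * h) m = cj g (cj h m) := by
  rw [cj, map_mul]
  rfl

theorem cj_negI (m : Om c) : cj (negI c) m = m := by
  apply Subtype.ext
  rw [coe_cj, negI_mul, mul_inv_cancel_right]

end forms

end Cfsg.Agent.H832.OI
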