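import Mathlib
import Cfsg.Agent.H832.OI.Basic

/-!
# S3325, piece 2 (config lemma): the group of pairs
-/

set_option autoImplicit false

namespace Cfsg.Agent.H832.OI

open Cfsg Subgroup
open Cfsg.Agent.H323.OI

variable {F : Type} [Field F] {n : ℕ} {c : Fin n → F} {G : Type} [Group G] (s : Cfg c G)

theorem u_inv : s.u⁻¹ = s.u := inv_eq_of_mul_eq_one_left s.uu

theorem u'_inv : s.u'⁻¹ = s.u' := inv_eq_of_mul_eq_one_left s.uu'

theorem z_inv : s.z⁻¹ = s.z := inv_eq_of_mul_eq_one_left s.zz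

theorem z'_inv : s.z'⁻¹ = s.z' := inv_eq_of_mul_eq_one_left s.zz'

/-- the group generated by the pairs `(ψ m, m)`, `(u, z)`, `(u', z')` -/
def PP : Subgroup (G × OO c) :=
  closure (Set.range (fun m : Om c => ((s.ψ m, m.1) : G × OO c)) ∪ {(s.u, s.z), (s.u', s.z')})

theorem ψ_mem (m : Om c) : ((s.ψ m, m.1) : G × OO c) ∈ PP s := subset_closure (Or.inl ⟨m, rfl⟩)

theorem α_mem : ((s.u, s.z) : G × OO c) ∈ PP s := subset_closure (Or.inr (Or.inl rfl))

theorem β_mem : ((s.u', s.z') : G × OO c) ∈ PP s := subset_closure (Or.inr (Or.inr rfl))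

theorem acts {p : G × OO c} (hp : p ∈ PP s) : ∀ m : Om c, p.1 * s.ψ m * p.1⁻¹ = s.ψ (cj p.2 m) := by
  induction hp using closure_induction with
  | mem p hp =>
    intro m
    rcases hp with ⟨m', rfl⟩ | rfl | rfl
    · show s.ψ m' * s.ψ m * (s.ψ m')⁻¹ = _
      rw [← map_inv, ← map_mul, ← map_mul]
      congr 1
    · exact s.uψ m
    · exact s.uψ' m
  | one =>
    intro m
    show 1 * s.ψ m * 1⁻¹ = s.ψ (cj 1 m)
    rw [one_mul, inv_one, mul_one, cj, map_one]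
    rfl
  | mul p q _ _ ih1 ih2 =>
    intro m
    show p.1 * q.1 * s.ψ m * (p.1 * q.1)⁻¹ = s.ψ (cj (p.2 * q.2) m)
    rw [cj_mul, ← ih1, ← ih2]
    group
  | inv p _ ih =>
    intro m
    have h1 := ih (cj p.2⁻¹ m)
    rw [← cj_mul, mul_inv_cancel] at h1
    have h2 : cj (1 : OO c) m = m := by
      rw [cj, map_one]
      rfl
    rw [h2] at h1
    show p.1⁻¹ * s.ψ m * p.1⁻¹⁻¹ = s.ψ (cj p.2⁻¹ m)
    rw [← h1]
    group

theorem c0_mem : ((s.c0, 1) : G × OO c) ∈ PP s := by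
  have h1 := (PP s).mul_mem ((PP s).mul_mem ((PP s).mul_mem ((PP s).mul_mem (α_mem s) (β_mem s))
    ((PP s).inv_mem (α_mem s))) ((PP s).inv_mem (β_mem s))) ((PP s).inv_mem (ψ_mem s s.h))
  have h2 : ((s.u, s.z) * (s.u', s.z') * (s.u, s.z)⁻¹ * (s.u', s.z')⁻¹ * (s.ψ s.h, s.h.1)⁻¹ : G × OO c) =
      (s.c0, 1) := by
    refine Prod.ext rfl ?_
    show s.z * s.z' * s.z⁻¹ * s.z'⁻¹ * (s.h.1)⁻¹ = 1
    exact mul_inv_cancel _
  rwa [h2] at h1

theorem c0_comm (m : Om c) : s.c0 * s.ψ m = s.ψ m * s.c0 := by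
  have h1 := acts s (c0_mem s) m
  have h2 : cj (1 : OO c) m = m := by
    rw [cj, map_one]
    rfl
  rw [show ((s.c0, 1) : G × OO c).2 = 1 from rfl, h2] at h1
  exact mul_inv_eq_iff_eq_mul.1 h1

theorem c0_zcomm (k : ℤ) (m : Om c) : s.c0 ^ k * s.ψ m = s.ψ m * s.c0 ^ k := by
  have : Commute s.c0 (s.ψ m) := c0_comm s m
  exact (this.zpow_left k).eq

/-- `[u, u'] = c₀ ψ(h)` -/
theorem comm_eq : s.u * s.u' * s.u⁻¹ * s.u'⁻¹ = s.c0 * s.ψ s.h := by
  rw [Cfg.c0, inv_mul_cancel_right]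

theorem comm_eq' : s.u * s.u' * s.u * s.u' = s.c0 * s.ψ s.h := by
  rw [← comm_eq, u_inv, u'_inv]

theorem h_coe : (s.h : OO c) = s.z * s.z' * s.z⁻¹ * s.z'⁻¹ := rfl

theorem h_coe' : (s.h : OO c) = s.z * s.z' * s.z * s.z' := by
  rw [h_coe, z_inv, z'_inv]

/-- `(ψ(m) c₀ ^ k, m) w` -/
def EE (m : Om c) (k : ℤ) (w : G × OO c) : G × OO c := (s.ψ m * s.c0 ^ k, m.1) * w

theorem EE_EE (m m' : Om c) (k k' : ℤ) (w : G × OO c) : EE s m k (EE s m' k' w) = EE s (m * m') (k + k') w := by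
  rw [EE, EE, EE, ← mul_assoc]
  congr 1
  refine Prod.ext ?_ rfl
  show s.ψ m * s.c0 ^ k * (s.ψ m' * s.c0 ^ k') = s.ψ (m * m') * s.c0 ^ (k + k')
  rw [map_mul, zpow_add, mul_assoc, ← mul_assoc (s.c0 ^ k), c0_zcomm, ← mul_assoc, ← mul_assoc, ← mul_assoc]

theorem EE_mul (m : Om c) (k : ℤ) (w g : G × OO c) : EE s m k w * g = EE s m k (w * g) := mul_assoc _ _ _

theorem mul_ψ {w : G × OO c} (hw : w ∈ PP s) (m : Om c) : w * (s.ψ m, m.1) = EE s (cj w.2 m) 0 w := by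
  have h1 := acts s hw m
  rw [EE, zpow_zero, mul_one]
  refine Prod.ext ?_ ?_
  · show w.1 * s.ψ m = s.ψ (cj w.2 m) * w.1
    rw [← h1, inv_mul_cancel_right]
  · show w.2 * m.1 = (cj w.2 m).1 * w.2
    rw [coe_cj, inv_mul_cancel_right]

theorem ba : ((s.u', s.z') * (s.u, s.z) : G × OO c) = EE s s.h⁻¹ (-1) ((s.u, s.z) * (s.u', s.z')) := by
  rw [EE]
  refine Prod.ext ?_ ?_
  · show s.u' * s.u = s.ψ s.h⁻¹ * s.c0 ^ (-1 : ℤ) * (s.u * s.u')
    rw [map_inv, zpow_neg_one, ← mul_inv_rev, ← comm_eq']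
    simp only [mul_inv_rev, u_inv, u'_inv]
    have e1 := s.uu
    have e2 := s.uu'
    calc s.u' * s.u = s.u' * (s.u * (s.u' * s.u')) := by rw [e2, mul_one]
      _ = s.u' * (s.u * (s.u' * (s.u * s.u) * s.u')) := by rw [e1, mul_one]
      _ = _ := by group
  · show s.z' * s.z = (s.h⁻¹ : Om c).1 * (s.z * s.z')
    rw [show ((s.h⁻¹ : Om c) : OO c) = (s.h : OO c)⁻¹ from rfl, h_coe']
    simp only [mul_inv_rev, z_inv, z'_inv]
    have e1 := s.zz
    have e2 := s.zz'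
    calc s.z' * s.z = s.z' * (s.z * (s.z' * s.z')) := by rw [e2, mul_one]
      _ = s.z' * (s.z * (s.z' * (s.z * s.z) * s.z')) := by rw [e1, mul_one]
      _ = _ := by group

theorem aba : ((s.u, s.z) * (s.u', s.z') * (s.u, s.z) : G × OO c) = EE s s.h 1 (s.u', s.z') := by
  rw [EE]
  refine Prod.ext ?_ ?_
  · show s.u * s.u' * s.u = s.ψ s.h * s.c0 ^ (1 : ℤ) * s.u'
    rw [zpow_one, ← c0_comm, ← comm_eq', mul_assoc _ s.u' s.u', s.uu', mul_one]
  · show s.z * s.z' * s.z = s.h.1 * s.z'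
    rw [h_coe', mul_assoc _ s.z' s.z', s.zz', mul_one]

theorem aa : ((s.u, s.z) * (s.u, s.z) : G × OO c) = 1 := Prod.ext s.uu s.zz

theorem bb : ((s.u', s.z') * (s.u', s.z') : G × OO c) = 1 := Prod.ext s.uu' s.zz'

theorem EE_zero (w : G × OO c) : EE s 1 0 w = w := by
  rw [EE, zpow_zero, map_one, mul_one]
  exact one_mul w

/-- the four kinds of elements -/
theorem rep {p : G × OO c} (hp : p ∈ PP s) : ∃ (m : Om c) (k : ℤ), p = EE s m k 1 ∨ p = EE s m k (s.u, s.z) ∨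
    p = EE s m k (s.u', s.z') ∨ p = EE s m k ((s.u, s.z) * (s.u', s.z')) := by
  have gen : ∀ x g : G × OO c, g ∈ Set.range (fun m : Om c => ((s.ψ m, m.1) : G × OO c)) ∪ {(s.u, s.z), (s.u', s.z')} →
      (∃ (m : Om c) (k : ℤ), x = EE s m k 1 ∨ x = EE s m k (s.u, s.z) ∨
        x = EE s m k (s.u', s.z') ∨ x = EE s m k ((s.u, s.z) * (s.u', s.z'))) →
      ∃ (m : Om c) (k : ℤ), x * g = EE s m k 1 ∨ x * g = EE s m k (s.u, s.z) ∨
        x * g = EE s m k (s.u', s.z') ∨ x * g = EE s m k ((s.u, s.z) * (s.u', s.z')) := by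
    rintro x g hg ⟨m, k, h⟩
    rcases hg with ⟨m', rfl⟩ | rfl | rfl
    · rcases h with rfl | rfl | rfl | rfl
      · have e : EE s m k 1 * (s.ψ m', m'.1) = EE s (m * cj (1 : G × OO c).2 m') (k + 0) 1 := by
          rw [EE_mul, mul_ψ s (PP s).one_mem, EE_EE]
        exact ⟨_, _, Or.inl e⟩
      · have e : EE s m k (s.u, s.z) * (s.ψ m', m'.1) =
            EE s (m * cj ((s.u, s.z) : G × OO c).2 m') (k + 0) (s.u, s.z) := by
          rw [EE_mul, mul_ψ s (α_mem s), EE_EE]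
        exact ⟨_, _, Or.inr (Or.inl e)⟩
      · have e : EE s m k (s.u', s.z') * (s.ψ m', m'.1) =
            EE s (m * cj ((s.u', s.z') : G × OO c).2 m') (k + 0) (s.u', s.z') := by
          rw [EE_mul, mul_ψ s (β_mem s), EE_EE]
        exact ⟨_, _, Or.inr (Or.inr (Or.inl e))⟩
      · have e : EE s m k ((s.u, s.z) * (s.u', s.z')) * (s.ψ m', m'.1) =
            EE s (m * cj ((s.u, s.z) * (s.u', s.z') : G × OO c).2 m') (k + 0) ((s.u, s.z) * (s.u', s.z')) := by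
          rw [EE_mul, mul_ψ s ((PP s).mul_mem (α_mem s) (β_mem s)), EE_EE]
        exact ⟨_, _, Or.inr (Or.inr (Or.inr e))⟩
    · rcases h with rfl | rfl | rfl | rfl
      · have e : EE s m k 1 * (s.u, s.z) = EE s m k (s.u, s.z) := by
          rw [EE_mul, one_mul]
        exact ⟨_, _, Or.inr (Or.inl e)⟩
      · have e : EE s m k (s.u, s.z) * (s.u, s.z) = EE s m k 1 := by
          rw [EE_mul, aa]
        exact ⟨_, _, Or.inl e⟩
      · have e : EE s m k (s.u', s.z') * (s.u, s.z) = EE s (m * s.h⁻¹) (k + -1) ((s.u, s.z) * (s.u', s.z')) := by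
          rw [EE_mul, ba, EE_EE]
        exact ⟨_, _, Or.inr (Or.inr (Or.inr e))⟩
      · have e : EE s m k ((s.u, s.z) * (s.u', s.z')) * (s.u, s.z) = EE s (m * s.h) (k + 1) (s.u', s.z') := by
          rw [EE_mul, aba, EE_EE]
        exact ⟨_, _, Or.inr (Or.inr (Or.inl e))⟩
    · rcases h with rfl | rfl | rfl | rfl
      · have e : EE s m k 1 * (s.u', s.z') = EE s m k (s.u', s.z') := by
          rw [EE_mul, one_mul]
        exact ⟨_, _, Or.inr (Or.inr (Or.inl e))⟩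
      · have e : EE s m k (s.u, s.z) * (s.u', s.z') = EE s m k ((s.u, s.z) * (s.u', s.z')) := by
          rw [EE_mul]
        exact ⟨_, _, Or.inr (Or.inr (Or.inr e))⟩
      · have e : EE s m k (s.u', s.z') * (s.u', s.z') = EE s m k 1 := by
          rw [EE_mul, bb]
        exact ⟨_, _, Or.inl e⟩
      · have e : EE s m k ((s.u, s.z) * (s.u', s.z')) * (s.u', s.z') = EE s m k (s.u, s.z) := by
          rw [EE_mul, mul_assoc, bb, mul_one]
        exact ⟨_, _, Or.inr (Or.inl e)⟩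
  induction hp using closure_induction_right with
  | one => exact ⟨1, 0, Or.inl (EE_zero s 1).symm⟩
  | mul_right x hx g hg ih => exact gen x g hg ih
  | mul_inv_cancel x hx g hg ih =>
    refine gen x g⁻¹ ?_ ih
    rcases hg with ⟨m', rfl⟩ | rfl | rfl
    · refine Or.inl ⟨m'⁻¹, ?_⟩
      show ((s.ψ m'⁻¹, (m'⁻¹ : Om c).1) : G × OO c) = _
      rw [map_inv]
      rfl
    · refine Or.inr (Or.inl ?_)
      exact inv_eq_of_mul_eq_one_left (aa s)
    · refine Or.inr (Or.inr ?_)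
      exact inv_eq_of_mul_eq_one_left (bb s)

end Cfsg.Agent.H832.OI
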