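import Mathlib
import Cfsg.Agent.H832.OI.Conf

/-!
# S3325, piece 2 (config lemma)
-/

set_option autoImplicit false

namespace Cfsg.Agent.H832.OI

open Cfsg Subgroup
open Cfsg.Agent.H323.OI

variable {F : Type} [Field F] {n : ℕ} {c : Fin n → F} {G : Type} [Group G] (s : Cfg c G)

section cosets

theorem neg_one_ne {F : Type} [Field F] (h2 : (2 : F) ≠ 0) : (-1 : F) ≠ 1 := by
  intro h
  apply h2
  have : (1 : F) + 1 = 0 := by
    nth_rewrite 1 [← h]
    exact neg_add_cancel 1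
  rwa [one_add_one_eq_two] at this

variable (hO : OmF c) (h2 : (2 : F) ≠ 0)

include hO h2 in
theorem z_notMem : s.z ∉ Omega F (dq c) := fun h => neg_one_ne h2 (s.dz.symm.trans (hO.det1 _ h))

include hO h2 in
theorem z'_notMem : s.z' ∉ Omega F (dq c) := fun h => neg_one_ne h2 (s.dz'.symm.trans (hO.det1 _ h))

theorem zz'_notMem : s.z * s.z' ∉ Omega F (dq c) := by
  have := s.cos
  rwa [z_inv] at this

include hO h2 in
theorem one_rep {x : G} {g : OO c} (h : ((x, g) : G × OO c) ∈ PP s) (hg : g ∈ Omega F (dq c)) :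
    ∃ (m : Om c) (k : ℤ), x = s.ψ m * s.c0 ^ k ∧ m.1 = g := by
  obtain ⟨m, k, h | h | h | h⟩ := rep s h
  · refine ⟨m, k, ?_, ?_⟩
    · have := congrArg Prod.fst h
      rw [EE, mul_one] at this
      exact this
    · have := congrArg Prod.snd h
      rw [EE, mul_one] at this
      exact this.symm
  · exfalso
    have h1 : g = m.1 * s.z := congrArg Prod.snd h
    rw [h1] at hg
    exact z_notMem s hO h2 ((Subgroup.mul_mem_cancel_left _ m.2).1 hg)
  · exfalso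
    have h1 : g = m.1 * s.z' := congrArg Prod.snd h
    rw [h1] at hg
    exact z'_notMem s hO h2 ((Subgroup.mul_mem_cancel_left _ m.2).1 hg)
  · exfalso
    have h1 : g = m.1 * (s.z * s.z') := congrArg Prod.snd h
    rw [h1] at hg
    exact zz'_notMem s ((Subgroup.mul_mem_cancel_left _ m.2).1 hg)

include hO h2 in
theorem K1 {x : G} (h : ((x, 1) : G × OO c) ∈ PP s) : ∃ k : ℤ, x = s.c0 ^ k := by
  obtain ⟨m, k, h1, h3⟩ := one_rep s hO h2 h (one_mem _)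
  have : m = 1 := Subtype.ext h3
  refine ⟨k, ?_⟩
  rw [h1, this, map_one, one_mul]

end cosets

section proj

/-- `H = M ⟨u, u'⟩` -/
abbrev HH : Subgroup G := s.ψ.range ⊔ closure {s.u, s.u'}

theorem fst_mem {p : G × OO c} (hp : p ∈ PP s) : p.1 ∈ HH s := by
  have h : PP s ≤ (HH s).comap (MonoidHom.fst G (OO c)) := by
    rw [PP, closure_le]
    rintro _ (⟨m, rfl⟩ | rfl | rfl)
    · exact mem_sup_left ⟨m, rfl⟩
    · exact mem_sup_right (subset_closure (Or.inl rfl))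
    · exact mem_sup_right (subset_closure (Or.inr rfl))
  exact h hp

theorem lift {x : G} (hx : x ∈ HH s) : ∃ g : OO c, ((x, g) : G × OO c) ∈ PP s := by
  have h : HH s ≤ (PP s).map (MonoidHom.fst G (OO c)) := by
    refine sup_le ?_ ?_
    · rintro _ ⟨m, rfl⟩
      exact ⟨_, ψ_mem s m, rfl⟩
    · rw [closure_le]
      rintro _ (rfl | rfl)
      · exact ⟨_, α_mem s, rfl⟩
      · exact ⟨_, β_mem s, rfl⟩
  obtain ⟨p, hp, rfl⟩ := h hx
  exact ⟨p.2, hp⟩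

theorem snd_top (hO : OmF c) (h2 : (2 : F) ≠ 0) (g : OO c) : ∃ x : G, ((x, g) : G × OO c) ∈ PP s := by
  obtain ⟨K, hK⟩ : ∃ K : Subgroup (OO c), K = (PP s).map (MonoidHom.snd G (OO c)) := ⟨_, rfl⟩
  have h1 : Omega F (dq c) ≤ K := by
    intro m hm
    rw [hK]
    exact ⟨_, ψ_mem s ⟨m, hm⟩, rfl⟩
  have hz : s.z ∈ K := by
    rw [hK]
    exact ⟨_, α_mem s, rfl⟩
  have hz' : s.z' ∈ K := by
    rw [hK]
    exact ⟨_, β_mem s, rfl⟩
  have h3 := relIndex_mul_index h1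
  rw [hO.idx] at h3
  have h4 : (Omega F (dq c)).relIndex K ≠ 1 := by
    rw [Ne, relIndex_eq_one]
    exact fun h => z_notMem s hO h2 (h hz)
  have h5 : (Omega F (dq c)).relIndex K ≠ 2 := by
    intro h
    have h6 := Subgroup.mul_mem_iff_of_index_two (H := (Omega F (dq c)).subgroupOf K) h (a := ⟨s.z, hz⟩)
      (b := ⟨s.z', hz'⟩)
    rw [mem_subgroupOf, mem_subgroupOf, mem_subgroupOf] at h6
    have h7 := h6.2 ⟨fun h => absurd h (z_notMem s hO h2), fun h => absurd h (z'_notMem s hO h2)⟩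
    exact zz'_notMem s h7
  have h6 : K.index = 1 := by
    have h7 : (Omega F (dq c)).relIndex K ≠ 0 := by
      intro h
      rw [h, zero_mul] at h3
      exact absurd h3 (by norm_num)
    have h8 : 3 ≤ (Omega F (dq c)).relIndex K := by omega
    have h9 : K.index ≠ 0 := by
      intro h
      rw [h, mul_zero] at h3
      exact absurd h3 (by norm_num)
    by_contra h10
    have h11 : 2 ≤ K.index := by omega
    have := Nat.mul_le_mul h8 h11
    omega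
  rw [index_eq_one] at h6
  have h7 : g ∈ (PP s).map (MonoidHom.snd G (OO c)) := by
    rw [← hK, h6]
    trivial
  obtain ⟨p, hp, rfl⟩ := h7
  exact ⟨p.1, hp⟩

theorem HH_le : HH s ≤ centralizer {s.t} := by
  refine sup_le ?_ ?_
  · rintro _ ⟨m, rfl⟩
    rw [mem_centralizer_singleton_iff]
    exact (s.fix m).symm
  · rw [closure_le]
    rintro _ (rfl | rfl)
    · rw [SetLike.mem_coe, mem_centralizer_singleton_iff]
      exact s.ut
    · rw [SetLike.mem_coe, mem_centralizer_singleton_iff]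
      exact s.ut'

theorem t_mem [Finite G] : s.t ∈ HH s := by
  refine mem_of_odd s.idx ?_ s.tt ?_
  · rw [mem_centralizer_singleton_iff]
  · intro g hg
    rw [mem_centralizer_singleton_iff] at hg
    exact hg

theorem M_le : s.ψ.range ≤ centralizer {s.t} := le_sup_left.trans (HH_le s)

/-- `Q` is normal in `C`, so `H ∩ Q` has odd index in `Q`. -/
theorem odd_of_le [Finite G] {K : Subgroup G} (h : HH s ⊓ s.Q ≤ K) : Odd (K.relIndex s.Q) := by
  have h1 : K.relIndex s.Q ∣ (HH s ⊓ s.Q).relIndex s.Q := relIndex_dvd_of_le_left _ h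
  rw [inf_relIndex_right] at h1
  have h2 : (HH s).relIndex s.Q ∣ (HH s).relIndex (centralizer {s.t}) := by
    refine relIndex_dvd inf_le_left ?_
    intro g hg k hk
    refine mem_inf.2 ⟨mul_mem (mul_mem hg hk.1) (inv_mem hg), ?_⟩
    rw [mem_centralizer_iff]
    rintro _ ⟨m, rfl⟩
    rw [mem_centralizer_singleton_iff] at hg
    obtain ⟨m', hm'⟩ := s.nrm g⁻¹ (by rw [inv_mul_eq_iff_eq_mul, ← mul_assoc, hg, mul_inv_cancel_right]) m
    have h3 := mem_centralizer_iff.1 hk.2 (s.ψ m') ⟨m', rfl⟩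
    rw [hm', inv_inv] at h3
    calc s.ψ m * (g * k * g⁻¹) = g * (g⁻¹ * s.ψ m * g * k) * g⁻¹ := by group
      _ = g * (k * (g⁻¹ * s.ψ m * g)) * g⁻¹ := by rw [h3]
      _ = g * k * g⁻¹ * s.ψ m := by group
  exact Odd.of_dvd_nat s.idx (h1.trans h2)

end proj

section acting

/-- an element of `H ∩ C(M)` acts as `± 1` -/
theorem pm (hO : OmF c) {x : G} {g : OO c} (h : ((x, g) : G × OO c) ∈ PP s)
    (hx : x ∈ centralizer (s.ψ.range : Set G)) : g = 1 ∨ g = negI c := by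
  apply hO.cen
  intro m hm
  have h1 : x * s.ψ ⟨m, hm⟩ * x⁻¹ = s.ψ (cj g ⟨m, hm⟩) := acts s h ⟨m, hm⟩
  have h3 := mem_centralizer_iff.1 hx (s.ψ ⟨m, hm⟩) ⟨_, rfl⟩
  rw [← h3, mul_inv_cancel_right] at h1
  have h4 := congrArg Subtype.val (s.inj h1)
  rw [coe_cj] at h4
  exact (mul_inv_eq_iff_eq_mul.1 h4.symm)

/-- an element acting as `± 1` lies in `Q` -/
theorem mem_Q {x : G} {g : OO c} (h : ((x, g) : G × OO c) ∈ PP s) (hg : g = 1 ∨ g = negI c) : x ∈ s.Q := by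
  refine mem_inf.2 ⟨HH_le s (fst_mem s h), ?_⟩
  rw [mem_centralizer_iff]
  rintro _ ⟨m, rfl⟩
  have h1 : x * s.ψ m * x⁻¹ = s.ψ (cj g m) := acts s h m
  have h3 : cj g m = m := by
    rcases hg with rfl | rfl
    · rw [cj, map_one]
      rfl
    · exact cj_negI m
  rw [h3] at h1
  exact (mul_inv_eq_iff_eq_mul.1 h1).symm

/-- the elements of `H ∩ Q` -/
theorem HQ (hO : OmF c) (h2 : (2 : F) ≠ 0) {y : G} (hy : ((y, negI c) : G × OO c) ∈ PP s) {x : G}
    (hx : x ∈ HH s ⊓ s.Q) : ∃ k : ℤ, x = s.c0 ^ k ∨ x = s.c0 ^ k * y := by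
  obtain ⟨g, hg⟩ := lift s hx.1
  rcases pm s hO hg hx.2.2 with rfl | rfl
  · obtain ⟨k, hk⟩ := K1 s hO h2 hg
    exact ⟨k, Or.inl hk⟩
  · have h1 := (PP s).mul_mem hg ((PP s).inv_mem hy)
    have h3 : ((x, negI c) * (y, negI c)⁻¹ : G × OO c) = (x * y⁻¹, 1) :=
      Prod.ext rfl (mul_inv_cancel _)
    rw [h3] at h1
    obtain ⟨k, hk⟩ := K1 s hO h2 h1
    refine ⟨k, Or.inr ?_⟩
    rw [← hk, inv_mul_cancel_right]

theorem t_mem_HQ [Finite G] : s.t ∈ HH s ⊓ s.Q := by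
  refine mem_inf.2 ⟨t_mem s, mem_inf.2 ⟨?_, ?_⟩⟩
  · rw [mem_centralizer_singleton_iff]
  · rw [mem_centralizer_iff]
    rintro _ ⟨m, rfl⟩
    exact (s.fix m).symm

end acting

section c0

theorem cj_inv_h : cj s.z s.h⁻¹ = s.h := by
  apply Subtype.ext
  rw [coe_cj, show ((s.h⁻¹ : Om c) : OO c) = (s.h : OO c)⁻¹ from rfl, h_coe', z_inv]
  simp only [mul_inv_rev, z_inv, z'_inv]
  have e1 := s.zz
  calc s.z * (s.z' * (s.z * (s.z' * s.z))) * s.z = s.z * s.z' * s.z * s.z' * (s.z * s.z) := by group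
    _ = _ := by rw [e1, mul_one]

theorem cj'_inv_h : cj s.z' s.h⁻¹ = s.h := by
  apply Subtype.ext
  rw [coe_cj, show ((s.h⁻¹ : Om c) : OO c) = (s.h : OO c)⁻¹ from rfl, h_coe', z'_inv]
  simp only [mul_inv_rev, z_inv, z'_inv]
  have e1 := s.zz'
  calc s.z' * (s.z' * (s.z * (s.z' * s.z))) * s.z' = (s.z' * s.z') * s.z * s.z' * s.z * s.z' := by group
    _ = _ := by rw [e1, one_mul]

theorem c0_inv_comm (m : Om c) : (s.ψ m)⁻¹ * s.c0⁻¹ * s.ψ m = s.c0⁻¹ := by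
  have h := c0_comm s m
  calc (s.ψ m)⁻¹ * s.c0⁻¹ * s.ψ m = (s.c0 * s.ψ m)⁻¹ * s.ψ m := by rw [mul_inv_rev]
    _ = (s.ψ m * s.c0)⁻¹ * s.ψ m := by rw [h]
    _ = _ := by group

theorem uc : s.u * s.c0 * s.u⁻¹ = s.c0⁻¹ := by
  have h1 : s.u * (s.u * s.u' * s.u * s.u') * s.u⁻¹ = (s.u * s.u' * s.u * s.u')⁻¹ := by
    simp only [mul_inv_rev, u_inv, u'_inv]
    calc s.u * (s.u * s.u' * s.u * s.u') * s.u = (s.u * s.u) * s.u' * s.u * s.u' * s.u := by group
      _ = _ := by rw [s.uu]; group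
  have h2 : s.u * (s.ψ s.h)⁻¹ * s.u⁻¹ = s.ψ s.h := by
    rw [← map_inv, s.uψ, cj_inv_h]
  have h3 : s.c0 = s.u * s.u' * s.u * s.u' * (s.ψ s.h)⁻¹ := by
    rw [comm_eq', mul_inv_cancel_right]
  calc s.u * s.c0 * s.u⁻¹ = (s.u * (s.u * s.u' * s.u * s.u') * s.u⁻¹) * (s.u * (s.ψ s.h)⁻¹ * s.u⁻¹) := by
        rw [h3]; group
    _ = (s.u * s.u' * s.u * s.u')⁻¹ * s.ψ s.h := by rw [h1, h2]
    _ = (s.ψ s.h)⁻¹ * s.c0⁻¹ * s.ψ s.h := by rw [comm_eq', mul_inv_rev]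
    _ = _ := c0_inv_comm s _

theorem uc' : s.u' * s.c0 * s.u'⁻¹ = s.c0⁻¹ := by
  have h1 : s.u' * (s.u * s.u' * s.u * s.u') * s.u'⁻¹ = (s.u * s.u' * s.u * s.u')⁻¹ := by
    simp only [mul_inv_rev, u_inv, u'_inv]
    calc s.u' * (s.u * s.u' * s.u * s.u') * s.u' = s.u' * s.u * s.u' * s.u * (s.u' * s.u') := by group
      _ = _ := by rw [s.uu']; group
  have h2 : s.u' * (s.ψ s.h)⁻¹ * s.u'⁻¹ = s.ψ s.h := by
    rw [← map_inv, s.uψ', cj'_inv_h]
  have h3 : s.c0 = s.u * s.u' * s.u * s.u' * (s.ψ s.h)⁻¹ := by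
    rw [comm_eq', mul_inv_cancel_right]
  calc s.u' * s.c0 * s.u'⁻¹ = (s.u' * (s.u * s.u' * s.u * s.u') * s.u'⁻¹) * (s.u' * (s.ψ s.h)⁻¹ * s.u'⁻¹) := by
        rw [h3]; group
    _ = (s.u * s.u' * s.u * s.u')⁻¹ * s.ψ s.h := by rw [h1, h2]
    _ = (s.ψ s.h)⁻¹ * s.c0⁻¹ * s.ψ s.h := by rw [comm_eq', mul_inv_rev]
    _ = _ := c0_inv_comm s _

/-- the order of `c₀` is even -/
theorem c0_odd (k : ℤ) : s.c0 ^ (2 * k + 1) ≠ 1 := by
  intro h
  have h1 := orderOf_dvd_iff_zpow_eq_one.2 h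
  have h2 : (2 : ℤ) ∣ (orderOf s.c0 : ℤ) := by exact_mod_cast even_iff_two_dvd.1 s.even_c0
  have h3 := h2.trans h1
  omega

theorem npow [Finite G] (k : ℤ) : ∃ j : ℕ, s.c0 ^ k = s.c0 ^ j := by
  have h : s.c0 ^ k ∈ zpowers s.c0 := zpow_mem (mem_zpowers _) k
  rw [← mem_powers_iff_mem_zpowers] at h
  obtain ⟨j, hj⟩ := h
  exact ⟨j, hj.symm⟩

theorem conj_zpow_inv {v : G} (hv : v * s.c0 * v⁻¹ = s.c0⁻¹) (k : ℤ) : v * s.c0 ^ k * v⁻¹ = s.c0 ^ (-k) := by
  rw [← conj_zpow, hv, inv_zpow, zpow_neg]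

end c0

section cases

/-- the element `y` of type I -/
theorem QI_of [Finite G] (hO : OmF c) (h2 : (2 : F) ≠ 0) {y v : G} (hy : ((y, negI c) : G × OO c) ∈ PP s)
    (hyy : y * y = 1) (hyc : y * s.c0 * y⁻¹ = s.c0⁻¹) (hvt : v * s.t = s.t * v) (hvy : v * y * v⁻¹ = y * s.c0)
    (hvc : v * s.c0 * v⁻¹ = s.c0⁻¹) : QI s y ∧ ∃ k : ℤ, s.t = s.c0 ^ k := by
  have hyi : y⁻¹ = y := inv_eq_of_mul_eq_one_left hyy
  have hyn : y ∉ zpowers s.c0 := by
    intro h
    obtain ⟨k, hk⟩ := mem_zpowers_iff.1 h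
    have h1 := conj_zpow_inv s hvc k
    rw [hk, hvy, zpow_neg, hk, hyi] at h1
    have h3 : s.c0 = 1 := mul_eq_left.1 h1
    have := s.even_c0
    rw [h3, orderOf_one] at this
    exact absurd this (by decide)
  refine ⟨⟨mem_Q s hy (Or.inr rfl), ?_, hyy, hyc, hyn, ⟨v, hvt, hvy, hvc⟩, ?_⟩, ?_⟩
  · rintro rfl
    exact hyn (one_mem _)
  · apply odd_of_le
    intro x hx
    obtain ⟨k, h | h⟩ := HQ s hO h2 hy hx
    · rw [h]
      exact mem_sup_left (zpow_mem (mem_zpowers _) k)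
    · rw [h]
      exact mul_mem (mem_sup_left (zpow_mem (mem_zpowers _) k)) (mem_sup_right (mem_zpowers _))
  · obtain ⟨k, h | h⟩ := HQ s hO h2 hy (t_mem_HQ s)
    · exact ⟨k, h⟩
    · exfalso
      have h1 : v * s.t * v⁻¹ = s.t := by rw [hvt, mul_inv_cancel_right]
      have h3 : v * s.t * v⁻¹ = s.c0 ^ (-k) * (y * s.c0) := by
        rw [h, ← hvy, ← conj_zpow_inv s hvc k]
        group
      have h4 : y * s.c0 = s.c0⁻¹ * y := by rw [← hyc, inv_mul_cancel_right]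
      rw [h1, h, h4, ← mul_assoc] at h3
      have h5 := mul_right_cancel h3
      apply c0_odd s k
      calc s.c0 ^ (2 * k + 1) = s.c0 * s.c0 ^ k * s.c0 ^ k := by
            rw [← zpow_one_add, ← zpow_add]
            congr 1
            ring
        _ = s.c0 * (s.c0 ^ (-k) * s.c0⁻¹) * s.c0 ^ k := by rw [← h5]
        _ = 1 := by group

theorem neg_m {w : OO c} (hw : w * w = 1) {m : Om c} (hm : m.1 = negI c * w) : m * m = 1 ∧ cj w m = m := by
  have hwi : w⁻¹ = w := inv_eq_of_mul_eq_one_left hw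
  constructor
  · apply Subtype.ext
    show m.1 * m.1 = 1
    rw [hm]
    calc negI c * w * (negI c * w) = negI c * (w * negI c) * w := by group
      _ = negI c * (negI c * w) * w := by rw [negI_mul w]
      _ = (negI c * negI c) * (w * w) := by group
      _ = 1 := by rw [negI_sq, hw, mul_one]
  · apply Subtype.ext
    rw [coe_cj, hm, hwi]
    calc w * (negI c * w) * w = w * negI c * (w * w) := by group
      _ = _ := by rw [hw, mul_one, negI_mul]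

theorem caseA [Finite G] (hO : OmF c) (h2 : (2 : F) ≠ 0) {m : Om c} (h1 : negI c = m.1 * s.z) :
    (∃ y, QI s y) ∧ ∃ k : ℤ, s.t = s.c0 ^ k := by
  have hm : m.1 = negI c * s.z := by rw [h1, mul_assoc, s.zz, mul_one]
  have hmem := (PP s).mul_mem (ψ_mem s m) (α_mem s)
  have e1 : ((s.ψ m, m.1) * (s.u, s.z) : G × OO c) = (s.ψ m * s.u, negI c) := Prod.ext rfl h1.symm
  rw [e1] at hmem
  obtain ⟨hmm, hcj⟩ := neg_m s.zz hm
  have hcj' : cj s.z' m * s.h⁻¹ = m := by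
    apply Subtype.ext
    show (cj s.z' m : OO c) * ((s.h⁻¹ : Om c) : OO c) = m.1
    rw [coe_cj, show ((s.h⁻¹ : Om c) : OO c) = (s.h : OO c)⁻¹ from rfl, h_coe', hm, z'_inv]
    simp only [mul_inv_rev, z_inv, z'_inv]
    calc s.z' * (negI c * s.z) * s.z' * (s.z' * (s.z * (s.z' * s.z))) =
        s.z' * negI c * s.z * (s.z' * s.z') * s.z * s.z' * s.z := by group
      _ = s.z' * negI c * (s.z * s.z) * s.z' * s.z := by rw [s.zz']; group
      _ = negI c * (s.z' * s.z') * s.z := by rw [s.zz, ← negI_mul]; group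
      _ = _ := by rw [s.zz', mul_one]
  have hu : s.u * s.ψ m = s.ψ m * s.u := by
    have := s.uψ m
    rw [hcj] at this
    exact mul_inv_eq_iff_eq_mul.1 this
  have key := QI_of s hO h2 (v := s.u') hmem ?_ ?_ s.ut' ?_ (uc' s)
  · exact ⟨⟨_, key.1⟩, key.2⟩
  · calc s.ψ m * s.u * (s.ψ m * s.u) = s.ψ m * (s.u * s.ψ m) * s.u := by group
      _ = (s.ψ m * s.ψ m) * (s.u * s.u) := by rw [hu]; group
      _ = 1 := by rw [s.uu, ← map_mul, hmm, map_one, mul_one]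
  · calc s.ψ m * s.u * s.c0 * (s.ψ m * s.u)⁻¹ = s.ψ m * (s.u * s.c0 * s.u⁻¹) * (s.ψ m)⁻¹ := by group
      _ = (s.ψ m * s.c0 * (s.ψ m)⁻¹)⁻¹ := by rw [uc]; group
      _ = _ := by rw [← c0_comm, mul_inv_cancel_right]
  · have e2 : s.u' * s.u * s.u' = (s.ψ s.h)⁻¹ * s.c0⁻¹ * s.u := by
      rw [← mul_inv_rev, ← comm_eq']
      simp only [mul_inv_rev, u_inv, u'_inv]
      calc s.u' * s.u * s.u' = s.u' * s.u * s.u' * (s.u * s.u) := by rw [s.uu, mul_one]
        _ = _ := by group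
    calc s.u' * (s.ψ m * s.u) * s.u'⁻¹ = (s.u' * s.ψ m * s.u'⁻¹) * (s.u' * s.u * s.u') := by
          rw [u'_inv]
          calc s.u' * (s.ψ m * s.u) * s.u' = s.u' * s.ψ m * (s.u' * s.u') * s.u * s.u' := by
                rw [s.uu']; group
            _ = _ := by group
      _ = s.ψ (cj s.z' m) * ((s.ψ s.h)⁻¹ * s.c0⁻¹ * s.u) := by rw [s.uψ', e2]
      _ = s.ψ (cj s.z' m * s.h⁻¹) * (s.c0⁻¹ * s.u) := by rw [map_mul, map_inv]; group
      _ = s.ψ m * (s.u * s.c0 * s.u⁻¹ * s.u) := by rw [hcj', uc]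
      _ = _ := by group

theorem caseB [Finite G] (hO : OmF c) (h2 : (2 : F) ≠ 0) {m : Om c} (h1 : negI c = m.1 * s.z') :
    (∃ y, QI s y) ∧ ∃ k : ℤ, s.t = s.c0 ^ k := by
  have hm : m.1 = negI c * s.z' := by rw [h1, mul_assoc, s.zz', mul_one]
  have hmem := (PP s).mul_mem ((PP s).mul_mem (ψ_mem s m) (β_mem s)) ((PP s).inv_mem (c0_mem s))
  have e1 : ((s.ψ m, m.1) * (s.u', s.z') * (s.c0, 1)⁻¹ : G × OO c) = (s.ψ m * s.u' * s.c0⁻¹, negI c) := by
    refine Prod.ext rfl ?_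
    show m.1 * s.z' * 1⁻¹ = negI c
    rw [inv_one, mul_one, h1]
  rw [e1] at hmem
  obtain ⟨hmm, hcj⟩ := neg_m s.zz' hm
  have hcj' : cj s.z m * s.h = m := by
    apply Subtype.ext
    show (cj s.z m : OO c) * (s.h : OO c) = m.1
    rw [coe_cj, h_coe', hm, z_inv]
    calc s.z * (negI c * s.z') * s.z * (s.z * s.z' * s.z * s.z') =
        s.z * negI c * s.z' * (s.z * s.z) * s.z' * s.z * s.z' := by group
      _ = s.z * negI c * (s.z' * s.z') * s.z * s.z' := by rw [s.zz]; group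
      _ = negI c * (s.z * s.z) * s.z' := by rw [s.zz', ← negI_mul]; group
      _ = _ := by rw [s.zz, mul_one]
  have hu : s.u' * s.ψ m = s.ψ m * s.u' := by
    have := s.uψ' m
    rw [hcj] at this
    exact mul_inv_eq_iff_eq_mul.1 this
  -- `y' = ψ(m) u'`
  have hyy : (s.ψ m * s.u') * (s.ψ m * s.u') = 1 := by
    calc s.ψ m * s.u' * (s.ψ m * s.u') = s.ψ m * (s.u' * s.ψ m) * s.u' := by group
      _ = (s.ψ m * s.ψ m) * (s.u' * s.u') := by rw [hu]; group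
      _ = 1 := by rw [s.uu', ← map_mul, hmm, map_one, mul_one]
  have hyc : s.ψ m * s.u' * s.c0 * (s.ψ m * s.u')⁻¹ = s.c0⁻¹ := by
    calc s.ψ m * s.u' * s.c0 * (s.ψ m * s.u')⁻¹ = s.ψ m * (s.u' * s.c0 * s.u'⁻¹) * (s.ψ m)⁻¹ := by group
      _ = (s.ψ m * s.c0 * (s.ψ m)⁻¹)⁻¹ := by rw [uc']; group
      _ = _ := by rw [← c0_comm, mul_inv_cancel_right]
  have hvy : s.u * (s.ψ m * s.u') * s.u⁻¹ = s.ψ m * s.u' * s.c0⁻¹ := by
    have e2 : s.u * s.u' * s.u = s.ψ s.h * s.c0 * s.u' := by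
      rw [← c0_comm, ← comm_eq', mul_assoc _ s.u' s.u', s.uu', mul_one]
    calc s.u * (s.ψ m * s.u') * s.u⁻¹ = (s.u * s.ψ m * s.u⁻¹) * (s.u * s.u' * s.u) := by
          rw [u_inv]
          calc s.u * (s.ψ m * s.u') * s.u = s.u * s.ψ m * (s.u * s.u) * s.u' * s.u := by
                rw [s.uu]; group
            _ = _ := by group
      _ = s.ψ (cj s.z m) * (s.ψ s.h * s.c0 * s.u') := by rw [s.uψ, e2]
      _ = s.ψ (cj s.z m * s.h) * (s.c0 * s.u') := by rw [map_mul]; group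
      _ = s.ψ m * ((s.u' * s.c0 * s.u'⁻¹)⁻¹ * s.u') := by rw [hcj', uc', inv_inv]
      _ = _ := by group
  obtain ⟨y, hy⟩ : ∃ y, y = s.ψ m * s.u' := ⟨_, rfl⟩
  rw [← hy] at hyy hyc hvy hmem
  have hyi : y⁻¹ = y := inv_eq_of_mul_eq_one_left hyy
  have hyc' : y * s.c0⁻¹ = s.c0 * y := by
    have h4 : (y * s.c0 * y⁻¹)⁻¹ = s.c0 := by rw [hyc, inv_inv]
    calc y * s.c0⁻¹ = (y * s.c0 * y⁻¹)⁻¹ * y := by group
      _ = _ := by rw [h4]
  have key := QI_of s hO h2 (v := s.u) hmem ?_ ?_ s.ut ?_ (uc s)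
  · exact ⟨⟨_, key.1⟩, key.2⟩
  · calc y * s.c0⁻¹ * (y * s.c0⁻¹) = (y * s.c0⁻¹) * y * s.c0⁻¹ := by group
      _ = s.c0 * (y * y) * s.c0⁻¹ := by rw [hyc']; group
      _ = 1 := by rw [hyy]; group
  · calc y * s.c0⁻¹ * s.c0 * (y * s.c0⁻¹)⁻¹ = y * s.c0 * y⁻¹ := by group
      _ = _ := hyc
  · calc s.u * (y * s.c0⁻¹) * s.u⁻¹ = (s.u * y * s.u⁻¹) * (s.u * s.c0 * s.u⁻¹)⁻¹ := by group
      _ = y * s.c0⁻¹ * s.c0 := by rw [hvy, uc, inv_inv]

theorem typeI [Finite G] (hO : OmF c) (h2 : (2 : F) ≠ 0) (hn : Odd n) : (∃ y, QI s y) ∧ ∃ k : ℤ, s.t = s.c0 ^ k := by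
  obtain ⟨y₀, hy₀⟩ := snd_top s hO h2 (negI c)
  have hdet : (mx (negI c)).det = -1 := by rw [det_negI, hn.neg_one_pow]
  obtain ⟨m, k, h | h | h | h⟩ := rep s hy₀
  · exfalso
    have h1 : negI c = m.1 := by
      have := congrArg Prod.snd h
      rw [EE, mul_one] at this
      exact this
    have h3 := hO.det1 _ m.2
    rw [← h1, hdet] at h3
    exact neg_one_ne h2 h3
  · exact caseA s hO h2 (m := m) (congrArg Prod.snd h)
  · exact caseB s hO h2 (m := m) (congrArg Prod.snd h)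
  · exfalso
    have h1 : negI c = m.1 * (s.z * s.z') := congrArg Prod.snd h
    have h3 := congrArg (fun g => (mx g).det) h1
    simp only [det_mul, hO.det1 _ m.2, s.dz, s.dz', hdet] at h3
    exact neg_one_ne h2 (by rw [h3]; ring)

theorem typeII [Finite G] (hO : OmF c) (h2 : (2 : F) ≠ 0) (hn : Even n) (hneg : negI c ∉ Omega F (dq c)) :
    (∃ b ∈ s.Q, b * b = s.c0 ∧ Odd ((zpowers b).relIndex s.Q)) ∧ ∃ k : ℤ, s.t = s.c0 ^ k := by
  obtain ⟨y₀, hy₀⟩ := snd_top s hO h2 (negI c)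
  have hdet : (mx (negI c)).det = 1 := by rw [det_negI, hn.neg_one_pow]
  obtain ⟨m, k, h | h | h | h⟩ := rep s hy₀
  · exfalso
    have h1 : negI c = m.1 := by
      have := congrArg Prod.snd h
      rw [EE, mul_one] at this
      exact this
    exact hneg (h1 ▸ m.2)
  · exfalso
    have h1 : negI c = m.1 * s.z := congrArg Prod.snd h
    have h3 := congrArg (fun g => (mx g).det) h1
    simp only [det_mul, hO.det1 _ m.2, s.dz, hdet, one_mul] at h3
    exact neg_one_ne h2 h3.symm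
  · exfalso
    have h1 : negI c = m.1 * s.z' := congrArg Prod.snd h
    have h3 := congrArg (fun g => (mx g).det) h1
    simp only [det_mul, hO.det1 _ m.2, s.dz', hdet, one_mul] at h3
    exact neg_one_ne h2 h3.symm
  · have h1 : negI c = m.1 * (s.z * s.z') := congrArg Prod.snd h
    have hm : m.1 = negI c * (s.z' * s.z) := by
      rw [h1]
      calc m.1 = m.1 * (s.z * (s.z' * s.z') * s.z) := by rw [s.zz', mul_one, s.zz, mul_one]
        _ = _ := by group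
    obtain ⟨b, hb⟩ : ∃ b, b = s.ψ m * (s.u * s.u') := ⟨_, rfl⟩
    have hmem := (PP s).mul_mem (ψ_mem s m) ((PP s).mul_mem (α_mem s) (β_mem s))
    have e1 : ((s.ψ m, m.1) * ((s.u, s.z) * (s.u', s.z')) : G × OO c) = (b, negI c) := by
      rw [hb]
      exact Prod.ext rfl h1.symm
    rw [e1] at hmem
    have hcjm : m * cj (s.z * s.z') m * s.h = 1 := by
      apply Subtype.ext
      show m.1 * (cj (s.z * s.z') m : OO c) * (s.h : OO c) = 1
      rw [coe_cj, h_coe', hm, mul_inv_rev, z_inv, z'_inv]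
      calc negI c * (s.z' * s.z) * (s.z * s.z' * (negI c * (s.z' * s.z)) * (s.z' * s.z)) * (s.z * s.z' * s.z * s.z') =
          negI c * s.z' * (s.z * s.z) * s.z' * negI c * s.z' * s.z * s.z' * (s.z * s.z) * s.z' * s.z * s.z' := by group
        _ = negI c * (s.z' * s.z') * negI c * s.z' * s.z * (s.z' * s.z') * s.z * s.z' := by rw [s.zz]; group
        _ = (negI c * negI c) * s.z' * (s.z * s.z) * s.z' := by rw [s.zz']; group
        _ = s.z' * s.z' := by rw [negI_sq, s.zz]; group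
        _ = 1 := s.zz'
    have hbb : b * b = s.c0 := by
      have h3 := acts s ((PP s).mul_mem (α_mem s) (β_mem s)) m
      have h4 : (s.u * s.u') * s.ψ m * (s.u * s.u')⁻¹ = s.ψ (cj (s.z * s.z') m) := h3
      have h5 : (s.u * s.u') * s.ψ m = s.ψ (cj (s.z * s.z') m) * (s.u * s.u') := by
        rw [← h4, inv_mul_cancel_right]
      rw [hb]
      calc s.ψ m * (s.u * s.u') * (s.ψ m * (s.u * s.u')) = s.ψ m * ((s.u * s.u') * s.ψ m) * (s.u * s.u') := by group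
        _ = s.ψ m * s.ψ (cj (s.z * s.z') m) * (s.u * s.u' * s.u * s.u') := by rw [h5]; group
        _ = s.ψ m * s.ψ (cj (s.z * s.z') m) * s.ψ s.h * s.c0 := by rw [comm_eq', c0_comm]; group
        _ = s.ψ (m * cj (s.z * s.z') m * s.h) * s.c0 := by rw [map_mul, map_mul]
        _ = _ := by rw [hcjm, map_one, one_mul]
    have hc : ∀ k : ℤ, s.c0 ^ k = b ^ (2 * k) := fun k => by
      rw [zpow_mul, ← hbb, zpow_two]
    refine ⟨⟨b, mem_Q s hmem (Or.inr rfl), hbb, ?_⟩, ?_⟩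
    · apply odd_of_le
      intro x hx
      obtain ⟨k, h | h⟩ := HQ s hO h2 hmem hx
      · rw [h, hc]
        exact zpow_mem (mem_zpowers _) _
      · rw [h, hc]
        exact mul_mem (zpow_mem (mem_zpowers _) _) (mem_zpowers _)
    · obtain ⟨k, h | h⟩ := HQ s hO h2 hmem (t_mem_HQ s)
      · exact ⟨k, h⟩
      · exfalso
        apply c0_odd s k
        have h3 : s.t = b ^ (2 * k + 1) := by rw [h, hc, zpow_add_one]
        calc s.c0 ^ (2 * k + 1) = b ^ (2 * (2 * k + 1)) := hc _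
          _ = b ^ (2 * k + 1) * b ^ (2 * k + 1) := by rw [← zpow_add]; congr 1; ring
          _ = 1 := by rw [← h3, s.tt]

theorem typeIII [Finite G] (hO : OmF c) (h2 : (2 : F) ≠ 0) (hz : negI c ∈ Omega F (dq c)) :
    (∃ i j : ℕ, s.t = s.ψ ⟨negI c, hz⟩ ^ i * s.c0 ^ j) ∧
      Odd ((zpowers (s.ψ ⟨negI c, hz⟩) ⊔ zpowers s.c0).relIndex s.Q) := by
  have hmem : ((s.ψ ⟨negI c, hz⟩, negI c) : G × OO c) ∈ PP s := ψ_mem s ⟨negI c, hz⟩
  constructor
  · obtain ⟨k, h | h⟩ := HQ s hO h2 hmem (t_mem_HQ s)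
    · obtain ⟨j, hj⟩ := npow s k
      exact ⟨0, j, by rw [h, hj, pow_zero, one_mul]⟩
    · obtain ⟨j, hj⟩ := npow s k
      refine ⟨1, j, ?_⟩
      rw [h, hj, pow_one]
      have : Commute s.c0 (s.ψ ⟨negI c, hz⟩) := c0_comm s _
      exact (this.pow_left j).eq
  · apply odd_of_le
    intro x hx
    obtain ⟨k, h | h⟩ := HQ s hO h2 hmem hx
    · rw [h]
      exact mem_sup_right (zpow_mem (mem_zpowers _) _)
    · rw [h]
      exact mul_mem (mem_sup_right (zpow_mem (mem_zpowers _) _)) (mem_sup_left (mem_zpowers _))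

end cases

/-- **S3325, piece 2**, the config lemma. -/
theorem pQF : PQF := by
  intro F _ n c hO h2 G _ _ s
  have hA : s.u * s.u' * s.u⁻¹ * s.u'⁻¹ = s.c0 * s.ψ s.h := comm_eq s
  have hcomm : ∀ j : ℕ, s.c0 ^ j = s.ψ (s.h⁻¹ ^ j) * (s.u * s.u' * s.u⁻¹ * s.u'⁻¹) ^ j := by
    intro j
    have h1 : Commute s.c0 (s.ψ s.h) := c0_comm s _
    rw [hA, h1.mul_pow, map_pow, map_inv, (h1.pow_pow j j).eq, inv_pow, inv_mul_cancel_left]
  have htI : negI c ∉ Omega F (dq c) → ∃ j : ℕ, s.t = s.c0 ^ j := by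
    intro hneg
    rcases Nat.even_or_odd n with hn | hn
    · obtain ⟨k, hk⟩ := (typeII s hO h2 hn hneg).2
      obtain ⟨j, hj⟩ := npow s k
      exact ⟨j, hk.trans hj⟩
    · obtain ⟨k, hk⟩ := (typeI s hO h2 hn).2
      obtain ⟨j, hj⟩ := npow s k
      exact ⟨j, hk.trans hj⟩
  refine ⟨mem_Q s (c0_mem s) (Or.inl rfl), uc s, uc' s, ?_, ?_, htI, fun hn => (typeI s hO h2 hn).1,
    fun hn hneg => (typeII s hO h2 hn hneg).1, fun hz => typeIII s hO h2 hz⟩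
  · by_cases hz : negI c ∈ Omega F (dq c)
    · obtain ⟨i, j, h⟩ := (typeIII s hO h2 hz).1
      refine ⟨(⟨negI c, hz⟩ : Om c) ^ i * s.h⁻¹ ^ j, j, ?_⟩
      rw [h, hcomm j, map_mul, map_pow s.ψ _ i]
      exact (mul_assoc _ _ _).symm
    · obtain ⟨j, h⟩ := htI hz
      exact ⟨s.h⁻¹ ^ j, j, by rw [h, hcomm j]⟩
  · intro g
    obtain ⟨x, hx⟩ := snd_top s hO h2 g
    exact ⟨x, fst_mem s hx, acts s hx⟩

end Cfsg.Agent.H832.OI
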